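import Groth.Agent.Lib.VarDim.Scheme
import Groth.Agent.Lib.VarDim.Irred
import Groth.Prelude.Def_Flat
import Mathlib.AlgebraicGeometry.Properties

/-!
# Local dimension of schemes of finite type over a field
-/

universe u
open CategoryTheory AlgebraicGeometry Order
open Groth.Agent.VarDim

namespace Groth.Agent.DimF18

variable {k : Type u} [Field k] {X : Scheme.{u}} (f : X ⟶ Spec (CommRingCat.of k)) [LocallyOfFiniteType f]

/-- A generization has dimension at most that of the point plus the dimension of the local ring. -/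
theorem sdim_le_add_coheight {z x : X} (h : z ⤳ x) : (sdim f z : ℕ∞) ≤ (sdim f x : ℕ∞) + coheight x := by
  obtain ⟨U, hU, hx, -⟩ := exists_isAffineOpen_mem_and_subset (U := (⊤ : X.Opens)) (x := x) trivial
  have hz : z ∈ U := h.mem_open U.2 hx
  letI : Algebra k Γ(X, U) := (baseToSections f U).toAlgebra
  haveI : Algebra.FiniteType k Γ(X, U) := finiteType_baseToSections f hU
  set p := hU.primeIdealOf ⟨x, hx⟩ with hp
  set q := hU.primeIdealOf ⟨z, hz⟩ with hq
  have hle : q.asIdeal ≤ p.asIdeal := by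
    have h1 := (fromSpec_le_iff (X := X) hU q p).1
    rw [hU.fromSpec_primeIdealOf, hU.fromSpec_primeIdealOf] at h1
    exact h1 h
  haveI : (p.asIdeal.map (Ideal.Quotient.mk q.asIdeal)).IsPrime :=
    Ideal.map_isPrime_of_surjective Ideal.Quotient.mk_surjective (by rwa [Ideal.mk_ker])
  let p' : PrimeSpectrum (Γ(X, U) ⧸ q.asIdeal) := ⟨p.asIdeal.map (Ideal.Quotient.mk q.asIdeal), inferInstance⟩
  have hp' : PrimeSpectrum.comap (Ideal.Quotient.mk q.asIdeal) p' = p := PrimeSpectrum.ext (by
    change (p.asIdeal.map _).comap _ = p.asIdeal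
    rw [Ideal.comap_map_of_surjective _ Ideal.Quotient.mk_surjective, ← RingHom.ker_eq_comap_bot,
      Ideal.mk_ker, sup_eq_left.mpr hle])
  have hsm := RingHom.strictMono_comap_of_surjective (f := Ideal.Quotient.mk q.asIdeal) Ideal.Quotient.mk_surjective
  have hb : Order.height p = coheight x := by
    letI := TopCat.Presheaf.algebra_section_stalk X.presheaf (⟨x, hx⟩ : U)
    haveI := hU.isLocalization_stalk ⟨x, hx⟩
    have e := ringKrullDim_stalk_eq_coheight x
    rw [IsLocalization.AtPrime.ringKrullDim_eq_height p.asIdeal (X.presheaf.stalk x), WithBot.coe_inj,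
      PrimeSpectrum.height_eq_orderHeight] at e
    exact e
  calc (sdim f z : ℕ∞) = coheight q := (sdim_eq_coheight f hU z hz).symm
    _ = (tdeg k (Γ(X, U) ⧸ q.asIdeal) : ℕ∞) := coheight_eq_tdeg k _ q
    _ = Order.height p' + coheight p' := (height_add_coheight_nat k _ p').symm
    _ ≤ Order.height p + coheight p := by
      gcongr
      · exact (height_le_height_apply_of_strictMono _ hsm p').trans (hp' ▸ le_rfl)
      · exact (coheight_le_coheight_apply_of_strictMono _ hsm p').trans (hp' ▸ le_rfl)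
    _ = _ := by rw [hb, sdim_eq_coheight f hU x hx, add_comm]

/-- Some generization attains the bound. -/
theorem exists_generization_sdim {x : X} {b : ℕ} (hb : coheight x = (b : ℕ∞)) :
    ∃ z, z ⤳ x ∧ sdim f x + b ≤ sdim f z := by
  obtain ⟨l, hl, hlen⟩ := exists_series_of_le_coheight x hb.ge
  refine ⟨l.last, ?_, ?_⟩
  · have := l.monotone (Fin.zero_le (Fin.last _))
    rw [show l 0 = x from hl] at this
    exact this
  · have key : ∀ i : Fin (l.length + 1), sdim f x + (i : ℕ) ≤ sdim f (l i) := by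
      intro i
      induction i using Fin.induction with
      | zero => rw [show l 0 = x from hl]; simp
      | succ j ih =>
        have hlt : l j.castSucc < l j.succ := l.step j
        have := sdim_lt_of_specializes f (x := l j.succ) (y := l j.castSucc)
          (show l j.succ ⤳ l j.castSucc from hlt.le) hlt.ne'
        simp only [Fin.val_castSucc, Fin.val_succ] at ih ⊢
        omega
    have := key (Fin.last _)
    simpa [hlen, RelSeries.last] using this

theorem localDim_eq {x : X} {b : ℕ} (hb : coheight x = (b : ℕ∞)) :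
    FlatMor.localDim X x = ((sdim f x + b : ℕ) : WithBot ℕ∞) := by
  haveI : Nonempty {U : TopologicalSpace.Opens X // x ∈ U} := ⟨⟨⊤, trivial⟩⟩
  have hdimU : ∀ U : X.Opens, topologicalKrullDim (U : Set X) =
      ⨆ y : U, ((sdim f (y : X) : ℕ) : WithBot ℕ∞) := fun U => by
    show topologicalKrullDim (U : Scheme.{u}) = _
    rw [dim_eq_iSup_sdim (U.ι ≫ f)]
    exact iSup_congr fun y => by rw [sdim_comp_of_surjective f U.ι y]; rfl
  refine le_antisymm ?_ (le_iInf fun U => ?_)
  · obtain ⟨U, hU, hx, -⟩ := exists_isAffineOpen_mem_and_subset (U := (⊤ : X.Opens)) (x := x) trivial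
    haveI : CompactSpace (U : Scheme.{u}) := isCompact_iff_compactSpace.1 hU.isCompact
    haveI := noetherianSpace_of_finiteType (U.ι ≫ f)
    let bad : Set (Set (U : Scheme.{u})) := {Z | Z ∈ irreducibleComponents (U : Scheme.{u}) ∧ (⟨x, hx⟩ : U) ∉ Z}
    have hfin : bad.Finite := TopologicalSpace.NoetherianSpace.finite_irreducibleComponents.subset fun Z hZ => hZ.1
    have hcl : IsClosed (⋃₀ bad) := by
      rw [Set.sUnion_eq_biUnion]
      exact hfin.isClosed_biUnion fun Z hZ => isClosed_of_mem_irreducibleComponents Z hZ.1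
    let V : X.Opens := U.ι ''ᵁ ⟨(⋃₀ bad)ᶜ, hcl.isOpen_compl⟩
    have hxV : x ∈ V := ⟨⟨x, hx⟩, fun ⟨Z, hZ, h⟩ => hZ.2 h, rfl⟩
    refine iInf_le_of_le (⟨V, hxV⟩ : {U : TopologicalSpace.Opens X // x ∈ U}) ?_
    show topologicalKrullDim (V : Set X) ≤ _
    rw [hdimU]
    refine iSup_le fun y => ?_
    obtain ⟨y', hy', hyy⟩ := (show (y : X) ∈ (U.ι ''ᵁ ⟨(⋃₀ bad)ᶜ, hcl.isOpen_compl⟩) from y.2)
    obtain ⟨η, hηy, hηmax⟩ := exists_maximal_specializes (U.ι ≫ f) y'
    have hη : η ⤳ (⟨x, hx⟩ : U) := by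
      by_contra hc
      refine hy' ⟨closure {η}, ⟨(maximal_iff_mem_irreducibleComponents (X := (U : Scheme.{u})) η).1 hηmax,
        fun h => hc (specializes_iff_mem_closure.2 h)⟩, specializes_iff_mem_closure.1 hηy⟩
    have hx' : (U.ι η) ⤳ x := hη.map U.ι.continuous
    have hy2 : sdim f (y : X) ≤ sdim f (U.ι η) := by
      have hsp : U.ι η ⤳ (y : X) := hyy ▸ hηy.map U.ι.continuous
      by_cases he : U.ι η = (y : X)
      · rw [he]
      · exact (sdim_lt_of_specializes f hsp he).le
    have h3 := sdim_le_add_coheight f hx'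
    rw [hb] at h3
    have h4 : sdim f (U.ι η) ≤ sdim f x + b := by exact_mod_cast h3
    exact_mod_cast hy2.trans h4
  · obtain ⟨z, hz, hle⟩ := exists_generization_sdim f hb
    rw [show (U.1 : Set X) = ((⟨U.1.1, U.1.2⟩ : X.Opens) : Set X) from rfl, hdimU]
    exact le_iSup_of_le ⟨z, hz.mem_open U.1.2 U.2⟩ (by exact_mod_cast hle)

/-- Immediate specializations drop the dimension by one. -/
theorem sdim_covBy {z x : X} (hne : z ≠ x) (h : z ⤳ x) (himm : ∀ y : X, z ⤳ y → y ⤳ x → y = z ∨ y = x) :
    sdim f z = sdim f x + 1 := by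
  obtain ⟨U, hU, hx, -⟩ := exists_isAffineOpen_mem_and_subset (U := (⊤ : X.Opens)) (x := x) trivial
  have hz : z ∈ U := h.mem_open U.2 hx
  letI : Algebra k Γ(X, U) := (baseToSections f U).toAlgebra
  haveI : Algebra.FiniteType k Γ(X, U) := finiteType_baseToSections f hU
  set p := hU.primeIdealOf ⟨x, hx⟩ with hp
  set q := hU.primeIdealOf ⟨z, hz⟩ with hq
  have hpx : hU.fromSpec p = x := hU.fromSpec_primeIdealOf _
  have hqz : hU.fromSpec q = z := hU.fromSpec_primeIdealOf _
  have hle : q ≤ p := by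
    rw [← fromSpec_le_iff hU, hpx, hqz]
    exact h
  have hlt : q < p := lt_of_le_of_ne hle fun e => hne (by rw [← hqz, e, hpx])
  have hcov : q ⋖ p := ⟨hlt, fun {c} hc1 hc2 => by
    have a1 : z ⤳ hU.fromSpec c := hqz ▸ ((fromSpec_le_iff hU q c).2 hc1.le)
    have a2 : hU.fromSpec c ⤳ x := hpx ▸ ((fromSpec_le_iff hU c p).2 hc2.le)
    rcases himm _ a1 a2 with e | e
    · exact hc1.ne (hU.fromSpec.isOpenEmbedding.injective (hqz.trans e.symm))
    · exact hc2.ne (hU.fromSpec.isOpenEmbedding.injective (e.trans hpx.symm))⟩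
  have e := coheight_covBy k Γ(X, U) hcov
  rw [sdim_eq_coheight f hU x hx, sdim_eq_coheight f hU z hz] at e
  exact_mod_cast e

end Groth.Agent.DimF18
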