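import Groth.Agent.Lib.DimF18.Bc
import Groth.Agent.Lib.VarDim.Fibre
import Mathlib.AlgebraicGeometry.IdealSheaf.Subscheme

/-!
# Dimensions of points of a product over a field; local dimension
-/

universe u
open CategoryTheory Limits AlgebraicGeometry Order TopologicalSpace
open Groth.Agent.VarDim

namespace Groth.Agent.DimF18

variable {k : Type u} [Field k] {X : Scheme.{u}}

theorem flat_over_field (g : X ⟶ Spec (CommRingCat.of k)) : Flat g := inferInstance

theorem coheight_ne_top [IsLocallyNoetherian X] (x : X) : coheight x ≠ ⊤ := by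
  intro htop
  have := ringKrullDim_stalk_eq_coheight x
  rw [htop] at this
  exact ringKrullDim_ne_top (R := X.presheaf.stalk x) this

/-- The local dimension is the largest dimension of a generization. -/
theorem exists_localDim_eq_sdim (f : X ⟶ Spec (CommRingCat.of k)) [LocallyOfFiniteType f] (x : X) :
    ∃ z, z ⤳ x ∧ (∀ y, y ⤳ z → y = z) ∧ FlatMor.localDim X x = (sdim f z : WithBot ℕ∞) ∧
      ∀ y, y ⤳ x → sdim f y ≤ sdim f z := by
  haveI : IsLocallyNoetherian X := LocallyOfFiniteType.isLocallyNoetherian f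
  obtain ⟨b, hb⟩ := ENat.ne_top_iff_exists.1 (coheight_ne_top x)
  obtain ⟨z, hzx, hz⟩ := exists_generization_sdim f hb.symm
  have hall : ∀ y, y ⤳ x → sdim f y ≤ sdim f x + b := fun y hy => by
    have := sdim_le_add_coheight f hy
    rw [← hb] at this
    exact_mod_cast this
  have heq : sdim f z = sdim f x + b := le_antisymm (hall z hzx) hz
  refine ⟨z, hzx, fun y hy => ?_, by rw [localDim_eq f hb.symm, heq], fun y hy => heq ▸ hall y hy⟩
  by_contra hne
  have := sdim_lt_of_specializes f hy hne
  have := hall y (hy.trans hzx)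
  omega

variable {Y : Scheme.{u}} (f : X ⟶ Spec (CommRingCat.of k)) (g : Y ⟶ Spec (CommRingCat.of k))
  [LocallyOfFiniteType f] [LocallyOfFiniteType g]

theorem sdim_prod (z : (pullback f g : Scheme.{u})) :
    sdim (pullback.fst f g ≫ f) z ≤ sdim f (pullback.fst f g z) + sdim g (pullback.snd f g z) ∧
      ∃ m : (pullback f g : Scheme.{u}), m ⤳ z ∧ pullback.fst f g m = pullback.fst f g z ∧
        pullback.snd f g m = pullback.snd f g z ∧
        sdim (pullback.fst f g ≫ f) m = sdim f (pullback.fst f g z) + sdim g (pullback.snd f g z) := by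
  set x := pullback.fst f g z
  let a := pullback.fst f g
  let h := a.fiberToSpecResidueField x
  obtain ⟨ψ, hψ⟩ := Spec.map_surjective (X.fromSpecResidueField x ≫ f)
  have sq : IsPullback (a.fiberι x ≫ pullback.snd f g) h g (Spec.map (ψ : CommRingCat.of k ⟶ CommRingCat.of (X.residueField x))) := by
    rw [show Spec.map (ψ : CommRingCat.of k ⟶ CommRingCat.of (X.residueField x)) = X.fromSpecResidueField x ≫ f from hψ]
    exact (IsPullback.of_hasPullback a (X.fromSpecResidueField x)).paste_horiz
      (IsPullback.of_hasPullback f g).flip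
  let z' : a.fiber x := (a.fiberHomeo x).symm ⟨z, rfl⟩
  have hz' : a.fiberι x z' = z := Scheme.Hom.fiberι_fiberHomeo_symm a x ⟨z, rfl⟩
  have hsnd : (a.fiberι x ≫ pullback.snd f g) z' = pullback.snd f g z := by
    rw [Scheme.Hom.comp_apply, hz']
  refine ⟨?_, ?_⟩
  · have h1 := sdim_fiber f a x z'
    rw [hz'] at h1
    have h2 := (sdim_bc sq z').1
    rw [hsnd] at h2
    change sdim (a.fiberToSpecResidueField x) z' ≤ _ at h2
    show sdim (a ≫ f) z ≤ _
    omega
  · obtain ⟨m, hm, hm1, hm2⟩ := exists_sdim_eq sq z'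
    refine ⟨a.fiberι x m, hz' ▸ hm.map (a.fiberι x).continuous, ?_, ?_, ?_⟩
    · have : a.fiberι x m ∈ Set.range (a.fiberι x) := ⟨_, rfl⟩
      rw [Scheme.Hom.range_fiberι] at this
      exact this
    · rw [← hsnd, ← hm1]
      rfl
    · rw [sdim_fiber f a x m]
      show sdim f x + sdim h m = _
      rw [hm2, hsnd]

theorem exists_prod_sdim (x : X) (y : Y) :
    ∃ m : (pullback f g : Scheme.{u}), sdim (pullback.fst f g ≫ f) m = sdim f x + sdim g y := by
  obtain ⟨z, h1, h2⟩ := Scheme.Pullback.exists_preimage_pullback (f := f) (g := g) x y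
    (Subsingleton.elim (α := Spec (CommRingCat.of k)) _ _)
  obtain ⟨m, -, -, -, hm⟩ := (sdim_prod f g z).2
  exact ⟨m, by rw [hm, h1, h2]⟩

omit [LocallyOfFiniteType f] [LocallyOfFiniteType g] in
/-- Generizations in a product can be prescribed, the second one maximal. -/
theorem exists_prod_generization (z : (pullback f g : Scheme.{u})) {ξ : X} (hξ : ξ ⤳ pullback.fst f g z)
    {η : Y} (hη : η ⤳ pullback.snd f g z) (hmax : ∀ y, y ⤳ η → y = η) :
    ∃ ζ : (pullback f g : Scheme.{u}), ζ ⤳ z ∧ pullback.fst f g ζ = ξ ∧ pullback.snd f g ζ = η := by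
  let I := Scheme.IdealSheafData.vanishingIdeal (⟨closure {ξ}, isClosed_closure⟩ : Closeds X)
  let i := I.subschemeι
  have hrange : Set.range i = closure {ξ} := by
    rw [Scheme.IdealSheafData.range_subschemeι, Scheme.IdealSheafData.coe_support_vanishingIdeal]
    simp
  let j : pullback (i ≫ f) g ⟶ pullback f g :=
    pullback.map (i ≫ f) g f g i (𝟙 Y) (𝟙 _) (Category.comp_id _) (by simp)
  have hj1 : j ≫ pullback.fst f g = pullback.fst (i ≫ f) g ≫ i := pullback.lift_fst _ _ _
  have hj2 : j ≫ pullback.snd f g = pullback.snd (i ≫ f) g := (pullback.lift_snd _ _ _).trans (Category.comp_id _)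
  have hrj : Set.range j = pullback.fst f g ⁻¹' Set.range i := by
    rw [Scheme.Pullback.range_map]
    simp
  obtain ⟨z', rfl⟩ : z ∈ Set.range j := by
    rw [hrj, Set.mem_preimage, hrange]
    exact specializes_iff_mem_closure.1 hξ
  obtain ⟨ξ', hξ'⟩ : ξ ∈ Set.range i := hrange ▸ subset_closure rfl
  have e1 : pullback.fst f g (j z') = i (pullback.fst (i ≫ f) g z') := by
    rw [← Scheme.Hom.comp_apply, hj1, Scheme.Hom.comp_apply]
  have e2 : ∀ w, pullback.snd f g (j w) = pullback.snd (i ≫ f) g w := fun w => by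
    rw [← Scheme.Hom.comp_apply, hj2]
  rw [e2] at hη
  obtain ⟨ζ₁, hζ₁, hζ₁'⟩ := exists_lift_specializes (pullback.snd (i ≫ f) g) hη
  have hgen : ξ' ⤳ pullback.fst (i ≫ f) g ζ₁ := by
    rw [← i.isClosedEmbedding.isInducing.specializes_iff, hξ', specializes_iff_mem_closure, ← hrange]
    exact ⟨_, rfl⟩
  obtain ⟨ζ, hζ, hζ'⟩ := exists_lift_specializes (pullback.fst (i ≫ f) g) hgen
  refine ⟨j ζ, (hζ.trans hζ₁).map j.continuous, ?_, ?_⟩
  · rw [← Scheme.Hom.comp_apply, hj1, Scheme.Hom.comp_apply, hζ', hξ']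
  · rw [e2]
    exact hmax _ (hζ₁' ▸ hζ.map (pullback.snd (i ≫ f) g).continuous)

/-- The local dimension does not change under an extension of the base field. -/
theorem localDim_bc {K : Type u} [Field K] {F P : Scheme.{u}} {φ : CommRingCat.of k ⟶ CommRingCat.of K}
    {p : F ⟶ Spec (CommRingCat.of k)} [LocallyOfFiniteType p] {pr : P ⟶ F} {q : P ⟶ Spec (CommRingCat.of K)}
    (sq : IsPullback pr q p (Spec.map φ)) (w : P) : FlatMor.localDim P w = FlatMor.localDim F (pr w) := by
  haveI : LocallyOfFiniteType q := MorphismProperty.of_isPullback sq inferInstance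
  haveI : Flat pr := MorphismProperty.of_isPullback sq.flip inferInstance
  obtain ⟨ζ, hζw, -, hζ, hζall⟩ := exists_localDim_eq_sdim q w
  obtain ⟨ξ, hξx, -, hξ, hξall⟩ := exists_localDim_eq_sdim p (pr w)
  rw [hζ, hξ]
  refine congrArg Nat.cast (le_antisymm ((sdim_bc sq ζ).1.trans (hξall _ (hζw.map pr.continuous))) ?_)
  obtain ⟨v, hv, hvξ⟩ := exists_lift_specializes pr hξx
  obtain ⟨m, hmv, -, hm⟩ := exists_sdim_eq sq v
  rw [← hvξ, ← hm]
  exact hζall m (hmv.trans hv)

/-- The dimensions of the components do not change under an extension of the base field. -/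
theorem exists_component_dim_bc {K : Type u} [Field K] {F P : Scheme.{u}} {φ : CommRingCat.of k ⟶ CommRingCat.of K}
    {p : F ⟶ Spec (CommRingCat.of k)} [LocallyOfFiniteType p] {pr : P ⟶ F} {q : P ⟶ Spec (CommRingCat.of K)}
    (sq : IsPullback pr q p (Spec.map φ)) {T : Set P} (hT : T ∈ irreducibleComponents P) :
    ∃ Z ∈ irreducibleComponents F, topologicalKrullDim T = topologicalKrullDim Z := by
  haveI : LocallyOfFiniteType q := MorphismProperty.of_isPullback sq inferInstance
  haveI : Flat pr := MorphismProperty.of_isPullback sq.flip inferInstance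
  obtain ⟨m, rfl, hm⟩ := exists_generic_of_mem_irreducibleComponents hT
  have hx : ∀ x, x ⤳ pr m → x = pr m := fun x hx => by
    obtain ⟨w, hw, hwx⟩ := exists_lift_specializes pr hx
    rw [← hwx, hm w hw]
  refine ⟨closure {pr m}, (maximal_iff_mem_irreducibleComponents (pr m)).1 hx, ?_⟩
  rw [dim_closure_singleton q, dim_closure_singleton p, (sdim_bc sq m).2 fun w hw _ => hm w hw]

theorem topologicalKrullDim_eq_of_homeo {A B : Type*} [TopologicalSpace A] [TopologicalSpace B]
    {e : A → B} (he : Topology.IsEmbedding e) (S : Set A) :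
    topologicalKrullDim S = topologicalKrullDim (e '' S) :=
  IsHomeomorph.topologicalKrullDim_eq _ (he.homeomorphImage S).isHomeomorph

end Groth.Agent.DimF18
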