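import Groth.Agent.Lib.DimF18.Prod

/-!
# Dimensions of points of an affine scheme of finite type over a field
-/

universe u
open CategoryTheory AlgebraicGeometry Order
open Groth.Agent.VarDim

set_option backward.isDefEq.respectTransparency.types false

namespace Groth.Agent.DimF18

variable (k : Type u) [Field k] (S : Type u) [CommRing S] [Algebra k S] [Algebra.FiniteType k S]

/-- The structure map of `Spec S`. -/
noncomputable abbrev specTo : Spec (CommRingCat.of S) ⟶ Spec (CommRingCat.of k) :=
  Spec.map (CommRingCat.ofHom (algebraMap k S))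

instance : LocallyOfFiniteType (specTo k S) :=
  (HasRingHomProperty.Spec_iff (P := @LocallyOfFiniteType)).2 (RingHom.finiteType_algebraMap.2 inferInstance)

theorem trdeg_residueField_eq (p : PrimeSpectrum S) :
    Algebra.trdeg k p.asIdeal.ResidueField = (tdeg k (S ⧸ p.asIdeal) : Cardinal) := by
  rw [← trdeg_eq_tdeg k (S ⧸ p.asIdeal), ← trdeg_add_eq k (S ⧸ p.asIdeal) (A := p.asIdeal.ResidueField),
    trdeg_eq_zero (R := S ⧸ p.asIdeal) (A := p.asIdeal.ResidueField), add_zero]

theorem sdim_spec (p : Spec (CommRingCat.of S)) :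
    (sdim (specTo k S) p : ℕ∞) = (tdeg k (S ⧸ p.asIdeal) : ℕ∞) := by
  rw [← height_eq_sdim (specTo k S)]
  rw [← Order.height_orderIso (specOrderIsoPrimeSpectrum (CommRingCat.of S)), specOrderIsoPrimeSpectrum_apply]
  exact coheight_eq_tdeg k S p

theorem coheight_spec (p : Spec (CommRingCat.of S)) :
    ((coheight p : ℕ∞) : WithBot ℕ∞) = ringKrullDim (Localization.AtPrime p.asIdeal) := by
  rw [IsLocalization.AtPrime.ringKrullDim_eq_height p.asIdeal (Localization.AtPrime p.asIdeal)]
  exact congrArg _ (idealHeight_eq_coheight (CommRingCat.of S) p).symm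

theorem localDim_spec (p : PrimeSpectrum S) :
    FlatMor.localDim (PrimeSpectrum S) p =
      ringKrullDim (Localization.AtPrime p.asIdeal) + ((tdeg k (S ⧸ p.asIdeal) : ℕ) : WithBot ℕ∞) := by
  haveI : IsLocallyNoetherian (Spec (CommRingCat.of S)) := LocallyOfFiniteType.isLocallyNoetherian (specTo k S)
  obtain ⟨b, hb⟩ := ENat.ne_top_iff_exists.1 (coheight_ne_top (X := Spec (CommRingCat.of S)) p)
  refine (localDim_eq (specTo k S) (x := p) hb.symm).trans ?_
  have h := sdim_spec k S p
  rw [Nat.cast_inj] at h
  rw [← coheight_spec S p, ← hb, h, add_comm]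
  rfl

end Groth.Agent.DimF18
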