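import Groth.Agent.Lib.FibDim4.Basic

/-!
# Minimal primes after an extension of the base field keep the dimension
-/

universe u
open TensorProduct Order

set_option backward.isDefEq.respectTransparency.types false

namespace Groth.Agent.DimF18

variable (k : Type u) [Field k] (K : Type u) [Field K] [Algebra k K]

/-- A non-zero element of the polynomial ring over `K` is regular on `K ⊗ A` for a domain `A` containing `k[x]`. -/
theorem regular_map_tensor {s : ℕ} (A : Type u) [CommRing A] [IsDomain A] [Algebra k A]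
    (g : MvPolynomial (Fin s) k →ₐ[k] A) (hg : Function.Injective g)
    {a : K ⊗[k] MvPolynomial (Fin s) k} (ha : a ≠ 0) {z : K ⊗[k] A}
    (hz : Algebra.TensorProduct.map (AlgHom.id K K) g a * z = 0) : z = 0 := by
  classical
  let P := MvPolynomial (Fin s) k
  let F := FractionRing P
  let L := FractionRing A
  let Q : K ⊗[k] P →ₐ[k] K ⊗[k] F := Algebra.TensorProduct.map (AlgHom.id k K) (IsScalarTower.toAlgHom k P F)
  haveI : IsDomain (K ⊗[k] P) := (MvPolynomial.algebraTensorAlgEquiv k K (σ := Fin s)).toMulEquiv.isDomain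
  have hQ : Function.Injective Q := Module.Flat.lTensor_preserves_injective_linearMap (M := K)
    (IsScalarTower.toAlgHom k P F).toLinearMap (IsFractionRing.injective P F)
  have hden : ∀ h : K ⊗[k] F, ∃ r : P, r ≠ 0 ∧ ∃ c, Q c = ((1 : K) ⊗ₜ algebraMap P F r) * h := by
    intro h
    induction h using TensorProduct.induction_on with
    | zero => exact ⟨1, one_ne_zero, 0, by simp⟩
    | tmul x f =>
      obtain ⟨p, r, hr, rfl⟩ := IsFractionRing.div_surjective (A := P) f
      refine ⟨r, nonZeroDivisors.ne_zero hr, x ⊗ₜ p, ?_⟩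
      simp [Q, IsScalarTower.toAlgHom, mul_div_cancel₀ _ ((map_ne_zero_iff _ (IsFractionRing.injective P F)).2 (nonZeroDivisors.ne_zero hr))]
    | add h h' e e' =>
      obtain ⟨r, hr, c, hc⟩ := e
      obtain ⟨r', hr', c', hc'⟩ := e'
      refine ⟨r * r', mul_ne_zero hr hr', ((1 : K) ⊗ₜ r') * c + ((1 : K) ⊗ₜ r) * c', ?_⟩
      rw [map_add, map_mul, map_mul, hc, hc']
      simp only [Q, Algebra.TensorProduct.map_tmul, map_one, IsScalarTower.coe_toAlgHom', map_mul]
      rw [show ((1 : K) ⊗ₜ[k] (algebraMap P F r * algebraMap P F r')) = ((1 : K) ⊗ₜ algebraMap P F r) * ((1 : K) ⊗ₜ algebraMap P F r') by simp]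
      ring
  have hreg : ∀ h : K ⊗[k] F, Q a * h = 0 → h = 0 := by
    intro h hh
    obtain ⟨r, hr, c, hc⟩ := hden h
    have h1 : Q (a * c) = 0 := by rw [map_mul, hc, mul_left_comm, hh, mul_zero]
    rw [map_eq_zero_iff Q hQ, mul_eq_zero] at h1
    rw [h1.resolve_left ha, map_zero] at hc
    have hu : IsUnit ((1 : K) ⊗ₜ[k] algebraMap P F r) :=
      (isUnit_iff_ne_zero.2 ((map_ne_zero_iff _ (IsFractionRing.injective P F)).2 hr)).map
        (Algebra.TensorProduct.includeRight : F →ₐ[k] K ⊗[k] F)
    exact (hu.mul_right_eq_zero).1 hc.symm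
  letI : Algebra P A := g.toRingHom.toAlgebra
  haveI : IsScalarTower k P A := IsScalarTower.of_algHom g
  haveI : FaithfulSMul P A := (faithfulSMul_iff_algebraMap_injective _ _).mpr hg
  let φF : F →+* L := IsFractionRing.lift (g := (algebraMap A L).comp g.toRingHom) ((IsFractionRing.injective A L).comp hg)
  letI : Algebra F L := φF.toAlgebra
  haveI : IsScalarTower k F L := IsScalarTower.of_algebraMap_eq fun c => by
    rw [IsScalarTower.algebraMap_apply k P F, RingHom.algebraMap_toAlgebra, IsFractionRing.lift_algebraMap]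
    change algebraMap k L c = algebraMap A L (g (algebraMap k P c))
    rw [AlgHom.commutes, ← IsScalarTower.algebraMap_apply]
  let b := Module.Free.chooseBasis F L
  let co : L →ₗ[k] (Module.Free.ChooseBasisIndex F L →₀ F) := b.repr.toLinearMap.restrictScalars k
  let Φ : K ⊗[k] L →ₗ[k] (Module.Free.ChooseBasisIndex F L →₀ (K ⊗[k] F)) :=
    (TensorProduct.finsuppRight k k K F _).toLinearMap ∘ₗ co.lTensor K
  have hΦ : Function.Injective Φ := (TensorProduct.finsuppRight k k K F _).injective.comp
    (Module.Flat.lTensor_preserves_injective_linearMap _ b.repr.injective)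
  have key : ∀ (c : K ⊗[k] P) (w : K ⊗[k] L) i, Φ (Algebra.TensorProduct.map (AlgHom.id k K)
      ((IsScalarTower.toAlgHom k A L).comp g) c * w) i = Q c * Φ w i := by
    intro c w i
    induction c using TensorProduct.induction_on with
    | zero => simp
    | add c c' h h' => rw [map_add, add_mul, map_add, Finsupp.add_apply, h, h', map_add, add_mul]
    | tmul x p =>
      induction w using TensorProduct.induction_on with
      | zero => simp
      | add w w' h h' => rw [mul_add, map_add, Finsupp.add_apply, h, h', map_add, Finsupp.add_apply, mul_add]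
      | tmul y l =>
        have e : algebraMap A L (g p) * l = algebraMap P F p • l := by
          rw [Algebra.smul_def, RingHom.algebraMap_toAlgebra, IsFractionRing.lift_algebraMap]
          rfl
        simp [Φ, Q, co, Algebra.TensorProduct.tmul_mul_tmul, TensorProduct.finsuppRight_apply_tmul_apply]
        rw [e, map_smul, Finsupp.smul_apply, smul_eq_mul]
  let j : K ⊗[k] A →ₐ[k] K ⊗[k] L := Algebra.TensorProduct.map (AlgHom.id k K) (IsScalarTower.toAlgHom k A L)
  have hj : Function.Injective j := Module.Flat.lTensor_preserves_injective_linearMap (M := K)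
    (IsScalarTower.toAlgHom k A L).toLinearMap (IsFractionRing.injective A L)
  have hja : j (Algebra.TensorProduct.map (AlgHom.id K K) g a) =
      Algebra.TensorProduct.map (AlgHom.id k K) ((IsScalarTower.toAlgHom k A L).comp g) a := by
    refine TensorProduct.induction_on a ?_ (fun x p => ?_) fun c c' h h' => ?_
    · simp
    · simp [j]
    · simp only [map_add, h, h']
  refine hj (hΦ (Finsupp.ext fun i => ?_))
  rw [map_zero, map_zero, Finsupp.zero_apply]
  refine hreg _ ?_
  rw [← key, ← hja, ← map_mul, hz, map_zero, map_zero, Finsupp.zero_apply]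

theorem ringKrullDim_quotient_minimalPrime (A : Type u) [CommRing A] [IsDomain A] [Algebra k A]
    [Algebra.FiniteType k A] {P : Ideal (K ⊗[k] A)} (hP : P ∈ minimalPrimes (K ⊗[k] A)) :
    ringKrullDim ((K ⊗[k] A) ⧸ P) = ringKrullDim A := by
  haveI : P.IsPrime := hP.1.1
  obtain ⟨s, g, hg, hgi, hdim, -⟩ := VarDim.exists_noether_dim k A
  let R := MvPolynomial (Fin s) k
  let G : K ⊗[k] R →ₐ[K] K ⊗[k] A := Algebra.TensorProduct.map (AlgHom.id K K) g
  let G' : K ⊗[k] R →+* (K ⊗[k] A) ⧸ P := (Ideal.Quotient.mk P).comp G.toRingHom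
  have hG' : Function.Injective G' := by
    rw [injective_iff_map_eq_zero]
    intro a ha
    by_contra ha0
    refine notMem_nonZeroDivisors_of_mem_mem_minimalPrimes (Ideal.Quotient.eq_zero_iff_mem.1 ha) hP ?_
    rw [mem_nonZeroDivisors_iff_right]
    intro z hz
    exact regular_map_tensor k K A g hg ha0 (mul_comm _ z ▸ hz)
  have hGi : G.toRingHom.IsIntegral := by
    intro x
    induction x using TensorProduct.induction_on with
    | zero => exact G.toRingHom.isIntegralElem_zero
    | add x y hx hy => exact RingHom.IsIntegralElem.add G.toRingHom hx hy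
    | tmul c a =>
      rw [show c ⊗ₜ[k] a = G.toRingHom (c ⊗ₜ 1) * ((1 : K) ⊗ₜ a) by simp [G, Algebra.TensorProduct.tmul_mul_tmul]]
      refine RingHom.IsIntegralElem.mul _ G.toRingHom.isIntegralElem_map ?_
      obtain ⟨f, hf, hfa⟩ := hgi a
      refine ⟨f.map (Algebra.TensorProduct.includeRight : R →ₐ[k] K ⊗[k] R).toRingHom, hf.map _, ?_⟩
      rw [Polynomial.eval₂_map]
      have hc : G.toRingHom.comp (Algebra.TensorProduct.includeRight : R →ₐ[k] K ⊗[k] R).toRingHom =
          (Algebra.TensorProduct.includeRight : A →ₐ[k] K ⊗[k] A).toRingHom.comp g.toRingHom :=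
        RingHom.ext fun x => by simp [G]
      rw [hc, show (1 : K) ⊗ₜ[k] a = (Algebra.TensorProduct.includeRight : A →ₐ[k] K ⊗[k] A).toRingHom a from rfl,
        ← Polynomial.hom_eval₂, hfa, map_zero]
  letI := G'.toAlgebra
  haveI : Algebra.IsIntegral (K ⊗[k] R) ((K ⊗[k] A) ⧸ P) :=
    ⟨RingHom.IsIntegral.trans G.toRingHom (Ideal.Quotient.mk P) hGi
      (RingHom.isIntegral_of_surjective _ Ideal.Quotient.mk_surjective)⟩
  rw [VarDim.ringKrullDim_eq_of_isIntegral (R := K ⊗[k] R) (S := (K ⊗[k] A) ⧸ P) hG',
    ringKrullDim_eq_of_ringEquiv (MvPolynomial.algebraTensorAlgEquiv k K (σ := Fin s)).toRingEquiv,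
    VarDim.ringKrullDim_mvPolynomial, hdim]

/-- Coheights of primes over a prime after extension of the field. -/
theorem coheight_le_and_eq (A B : Type u) [CommRing A] [CommRing B] [Algebra k A] [Algebra.FiniteType k A]
    [Algebra k B] [Algebra A B] [Algebra K B] [IsScalarTower k A B] [IsScalarTower k K B]
    [Algebra.IsPushout k K A B] (P : PrimeSpectrum B) :
    coheight P ≤ coheight (PrimeSpectrum.comap (algebraMap A B) P) ∧
      ((∀ Q : PrimeSpectrum B, Q ≤ P → PrimeSpectrum.comap (algebraMap A B) Q =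
          PrimeSpectrum.comap (algebraMap A B) P → Q = P) →
        coheight P = coheight (PrimeSpectrum.comap (algebraMap A B) P)) := by
  set p := PrimeSpectrum.comap (algebraMap A B) P with hp
  let m : A →ₐ[k] A ⧸ p.asIdeal := Ideal.Quotient.mkₐ k p.asIdeal
  let M : K ⊗[k] A →ₐ[k] K ⊗[k] (A ⧸ p.asIdeal) := Algebra.TensorProduct.map (AlgHom.id k K) m
  have hM : Function.Surjective M := TensorProduct.map_surjective Function.surjective_id Ideal.Quotient.mk_surjective
  let e := (Algebra.IsPushout.equiv k K A B).toRingEquiv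
  have he : ∀ a : A, e ((1 : K) ⊗ₜ a) = algebraMap A B a := fun a => by
    simp [e, Algebra.IsPushout.equiv_tmul]
  let π : B →+* K ⊗[k] (A ⧸ p.asIdeal) := M.toRingHom.comp e.symm.toRingHom
  have hπ : Function.Surjective π := hM.comp e.symm.surjective
  have hker : ∀ Q : PrimeSpectrum B, p ≤ PrimeSpectrum.comap (algebraMap A B) Q → RingHom.ker π ≤ Q.asIdeal := by
    intro Q hQ b hb
    have h1 : e.symm b ∈ RingHom.ker M := hb
    rw [Algebra.TensorProduct.lTensor_ker (R := k) (A := K) m Ideal.Quotient.mk_surjective] at h1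
    have h2 : Ideal.map Algebra.TensorProduct.includeRight (RingHom.ker m) ≤
        (Q.asIdeal.comap e.toRingHom : Ideal (K ⊗[k] A)) := by
      rw [Ideal.map_le_iff_le_comap]
      intro a ha
      have h3 : a ∈ p.asIdeal := Ideal.Quotient.eq_zero_iff_mem.1 ha
      show e ((1 : K) ⊗ₜ a) ∈ Q.asIdeal
      rw [he]
      exact hQ h3
    have h4 : e.toRingHom (e.symm b) ∈ Q.asIdeal := Ideal.mem_comap.1 (h2 h1)
    simpa using h4
  obtain ⟨P', hP'⟩ : ∃ P', PrimeSpectrum.comap π P' = P := by
    have h : P ∈ Set.range (PrimeSpectrum.comap π) := by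
      rw [range_comap_of_surjective _ _ hπ, PrimeSpectrum.mem_zeroLocus, SetLike.coe_subset_coe]
      exact hker P le_rfl
    exact h
  have hco : coheight P = coheight P' := by
    rw [coheight_eq_krullDim_Ici' P P' hπ hker hP']
  have hA : (coheight p : WithBot ℕ∞) = ringKrullDim (A ⧸ p.asIdeal) := by
    rw [coheight_eq_krullDim_Ici, ringKrullDim_quotient]
    exact Order.krullDim_eq_of_orderIso (OrderIso.setCongr _ _ (by ext q; rfl))
  have hdim := FibDim4.ringKrullDim_tensorProduct k K (A ⧸ p.asIdeal)
  refine ⟨?_, fun hmin => ?_⟩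
  · rw [← WithBot.coe_le_coe, hco, hA, ← hdim]
    exact Order.coheight_le_krullDim P'
  · rw [← WithBot.coe_inj, hA, hco, ← ringKrullDim_quotient_minimalPrime k K (A ⧸ p.asIdeal) (P := P'.asIdeal) ?_,
      ringKrullDim_quotient, coheight_eq_krullDim_Ici]
    · exact Order.krullDim_eq_of_orderIso (OrderIso.setCongr _ _ (by ext q; rfl))
    · refine ⟨⟨P'.isPrime, bot_le⟩, fun q hq hle => ?_⟩
      haveI := hq.1
      let Q' : PrimeSpectrum (K ⊗[k] (A ⧸ p.asIdeal)) := ⟨q, hq.1⟩
      have hQP : PrimeSpectrum.comap π Q' ≤ P := hP' ▸ (Ideal.comap_mono hle : PrimeSpectrum.comap π Q' ≤ PrimeSpectrum.comap π P')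
      have heq : PrimeSpectrum.comap (algebraMap A B) (PrimeSpectrum.comap π Q') = p := by
        refine le_antisymm (Ideal.comap_mono hQP) fun a ha => ?_
        show π (algebraMap A B a) ∈ q
        rw [show π (algebraMap A B a) = 0 from ?_]
        · exact zero_mem _
        · simp [π, ← he, M, m, Ideal.Quotient.eq_zero_iff_mem.2 ha]
      have := hmin _ hQP heq
      rw [← hP'] at this
      exact (congrArg PrimeSpectrum.asIdeal (PrimeSpectrum.comap_injective_of_surjective π hπ this)).ge
where
  coheight_eq_krullDim_Ici' {B C : Type u} [CommRing B] [CommRing C] {π : B →+* C} (P : PrimeSpectrum B) (P' : PrimeSpectrum C)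
      (hπ : Function.Surjective π) {p : Prop} (hker : p) (hP' : PrimeSpectrum.comap π P' = P) : coheight P = coheight P' := by
    refine le_antisymm (coheight_le fun l hl => ?_) (hP' ▸ coheight_le_coheight_apply_of_strictMono _
      (RingHom.strictMono_comap_of_surjective hπ) P')
    have hmem : ∀ i, l i ∈ Set.range (PrimeSpectrum.comap π) := fun i => by
      rw [range_comap_of_surjective _ _ hπ, PrimeSpectrum.mem_zeroLocus, SetLike.coe_subset_coe]
      refine le_trans ?_ (show P.asIdeal ≤ (l i).asIdeal from hl ▸ l.monotone (Fin.zero_le i))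
      rw [← hP']
      intro b hb
      show π b ∈ P'.asIdeal
      rw [RingHom.mem_ker.1 hb]
      exact zero_mem _
    choose g hg using hmem
    let l' : LTSeries (PrimeSpectrum C) := LTSeries.mk l.length g fun i j hij => by
      have h := l.strictMono hij
      rw [← hg i, ← hg j] at h
      refine lt_of_le_of_ne (fun c hc => ?_) fun e => h.ne (by rw [e])
      obtain ⟨b, rfl⟩ := hπ c
      exact h.le hc
    refine length_le_coheight (p := l') (le_of_eq ?_)
    refine PrimeSpectrum.comap_injective_of_surjective π hπ ?_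
    rw [hP', show l'.head = g 0 from rfl, hg 0]
    exact hl.symm

end Groth.Agent.DimF18
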