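import Groth.Agent.Lib.DimF18.Basic
import Groth.Agent.Lib.DimF18.Alg
import Mathlib.AlgebraicGeometry.Morphisms.Flat
import Mathlib.RingTheory.IsTensorProduct

/-!
# Dimensions of points under an extension of the base field and in products over a field
-/

universe u
open CategoryTheory Limits AlgebraicGeometry Order
open Groth.Agent.VarDim

set_option backward.isDefEq.respectTransparency false

namespace Groth.Agent.DimF18

variable {k K : Type u} [Field k] [Field K] {F P : Scheme.{u}} {φ : CommRingCat.of k ⟶ CommRingCat.of K}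
  {p : F ⟶ Spec (CommRingCat.of k)} [LocallyOfFiniteType p] {pr : P ⟶ F} {q : P ⟶ Spec (CommRingCat.of K)}

/-- Points of `X_K` have dimension at most that of their image, with equality at the maximal points of a fibre. -/
theorem sdim_bc (sq : IsPullback pr q p (Spec.map φ)) (w : P) :
    sdim q w ≤ sdim p (pr w) ∧
      ((∀ w' : P, w' ⤳ w → pr w' = pr w → w' = w) → sdim q w = sdim p (pr w)) := by
  letI : Algebra k K := φ.hom.toAlgebra
  haveI : LocallyOfFiniteType q := MorphismProperty.of_isPullback sq inferInstance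
  haveI : IsAffineHom pr := MorphismProperty.of_isPullback sq.flip inferInstance
  obtain ⟨W, hW, hwW, -⟩ := exists_isAffineOpen_mem_and_subset (U := (⊤ : F.Opens)) (x := pr w) trivial
  have hV : IsAffineOpen (pr ⁻¹ᵁ W) := hW.preimage pr
  set V := pr ⁻¹ᵁ W with hVdef
  have hiso := isIso_pushoutSection_of_isQuasiSeparated_of_flat_right sq
    (US := ⊤) (UT := ⊤) (UX := W) (UY := V) le_top le_top (by simp [hVdef]) (isAffineOpen_top _) (isAffineOpen_top _)
    hW.isCompact hW.isQuasiSeparated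
  replace hiso := (isIso_pushoutSection_iff sq le_top le_top (by simp [hVdef])).mp hiso
  let a : CommRingCat.of k ⟶ Γ(F, W) := CommRingCat.ofHom (baseToSections p W)
  let c : CommRingCat.of K ⟶ Γ(P, V) := CommRingCat.ofHom (baseToSections q V)
  have hφ : φ ≫ (Scheme.ΓSpecIso (CommRingCat.of K)).inv =
      (Scheme.ΓSpecIso (CommRingCat.of k)).inv ≫ (Spec.map φ).appTop := Scheme.ΓSpecIso_inv_naturality φ
  have hpo : IsPushout a φ (pr.app W) c := by
    rw [Scheme.Hom.app_eq_appLE]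
    refine hiso.of_iso (Scheme.ΓSpecIso (CommRingCat.of k)) (Iso.refl _) (Scheme.ΓSpecIso (CommRingCat.of K))
      (Iso.refl _) ?_ ?_ ?_ ?_
    · rw [Iso.refl_hom, Category.comp_id, ← Iso.inv_comp_eq]
      rfl
    · rw [show (Spec.map φ).appLE ⊤ ⊤ _ = (Spec.map φ).appTop from (Scheme.Hom.app_eq_appLE (f := Spec.map φ)).symm]
      exact Scheme.ΓSpecIso_naturality _
    · simp only [Iso.refl_hom, Category.comp_id, Category.id_comp]; rfl
    · rw [Iso.refl_hom, Category.comp_id, ← Iso.inv_comp_eq]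
      rfl
  letI : Algebra k Γ(F, W) := (baseToSections p W).toAlgebra
  haveI : Algebra.FiniteType k Γ(F, W) := finiteType_baseToSections p hW
  letI : Algebra K Γ(P, V) := (baseToSections q V).toAlgebra
  letI : Algebra Γ(F, W) Γ(P, V) := (pr.app W).hom.toAlgebra
  letI : Algebra k Γ(P, V) := (a ≫ pr.app W).hom.toAlgebra
  haveI : IsScalarTower k Γ(F, W) Γ(P, V) := .of_algebraMap_eq' rfl
  haveI : IsScalarTower k K Γ(P, V) := .of_algebraMap_eq' (congrArg CommRingCat.Hom.hom hpo.w)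
  haveI : Algebra.IsPushout k Γ(F, W) K Γ(P, V) := CommRingCat.isPushout_iff_isPushout.mp hpo
  haveI : Algebra.IsPushout k K Γ(F, W) Γ(P, V) := Algebra.IsPushout.symm inferInstance
  set Q : PrimeSpectrum Γ(P, V) := hV.primeIdealOf ⟨w, hwW⟩ with hQ
  have hfs : ∀ R : PrimeSpectrum Γ(P, V),
      hW.fromSpec (PrimeSpectrum.comap (algebraMap Γ(F, W) Γ(P, V)) R) = pr (hV.fromSpec R) := fun R => by
    have h := IsAffineOpen.SpecMap_appLE_fromSpec pr hW hV (le_refl V)
    have h2 := congrArg (fun g => g R) (congrArg (fun g : Spec Γ(P, V) ⟶ F => ⇑g) h)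
    rw [← Scheme.Hom.app_eq_appLE] at h2
    exact h2
  have hwQ : hV.fromSpec Q = w := hV.fromSpec_primeIdealOf _
  have hQW : PrimeSpectrum.comap (algebraMap Γ(F, W) Γ(P, V)) Q = hW.primeIdealOf ⟨pr w, hwW⟩ := by
    refine hW.fromSpec.isOpenEmbedding.injective ?_
    rw [hfs, hwQ, hW.fromSpec_primeIdealOf]
  obtain ⟨hle, heq⟩ := coheight_le_and_eq k K Γ(F, W) Γ(P, V) Q
  rw [hQW, sdim_eq_coheight q hV w hwW, sdim_eq_coheight p hW (pr w) hwW] at hle heq
  refine ⟨by exact_mod_cast hle, fun h => ?_⟩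
  have := heq fun R hR hRQ => by
    refine hV.fromSpec.isOpenEmbedding.injective ((h _ ?_ ?_).trans hwQ.symm)
    · exact hwQ ▸ ((fromSpec_le_iff hV R Q).2 hR)
    · rw [← hfs, hRQ, hW.fromSpec_primeIdealOf]
  exact_mod_cast this

/-- Any non-empty set of points of bounded dimension has a point maximal in it for generization. -/
theorem exists_maximal_of_bdd {X : Scheme.{u}} (f : X ⟶ Spec (CommRingCat.of k)) [LocallyOfFiniteType f]
    {S : Set X} {N : ℕ} (hb : ∀ x ∈ S, sdim f x ≤ N) {x : X} (hx : x ∈ S) :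
    ∃ m ∈ S, m ⤳ x ∧ ∀ y ∈ S, y ⤳ m → y = m := by
  obtain ⟨d, ⟨m, hmS, hmx, rfl⟩, hd⟩ : ∃ d ∈ {d | ∃ m ∈ S, m ⤳ x ∧ sdim f m = d},
      ∀ d' ∈ {d | ∃ m ∈ S, m ⤳ x ∧ sdim f m = d}, d' ≤ d := by
    have hbdd : BddAbove {d | ∃ m ∈ S, m ⤳ x ∧ sdim f m = d} :=
      ⟨N, by rintro d ⟨m, hm, -, rfl⟩; exact hb m hm⟩
    exact ⟨_, Nat.sSup_mem ⟨_, x, hx, specializes_rfl, rfl⟩ hbdd, fun d' hd' => le_csSup hbdd hd'⟩
  refine ⟨m, hmS, hmx, fun y hy hym => ?_⟩
  by_contra hne
  have := hd _ ⟨y, hy, hym.trans hmx, rfl⟩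
  have := sdim_lt_of_specializes f hym hne
  omega

/-- Going down for a flat morphism. -/
theorem exists_lift_specializes {X Y : Scheme.{u}} (f : X ⟶ Y) [Flat f] {z : X} {y : Y} (h : y ⤳ f z) :
    ∃ w, w ⤳ z ∧ f w = y := Flat.generalizingMap f h

/-- Over each point, and below each of its points, there is a point of the same dimension. -/
theorem exists_sdim_eq (sq : IsPullback pr q p (Spec.map φ)) (w : P) :
    ∃ m : P, m ⤳ w ∧ pr m = pr w ∧ sdim q m = sdim p (pr w) := by
  haveI : LocallyOfFiniteType q := MorphismProperty.of_isPullback sq inferInstance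
  obtain ⟨m, hm, hmw, hmax⟩ := exists_maximal_of_bdd q (S := {v | pr v = pr w}) (N := sdim p (pr w))
    (fun v hv => (sdim_bc sq v).1.trans (le_of_eq (congrArg _ hv))) (x := w) rfl
  exact ⟨m, hmw, hm, ((sdim_bc sq m).2 fun v hv hv' => hmax v (hv'.trans hm) hv).trans (congrArg _ hm)⟩

theorem exists_over (sq : IsPullback pr q p (Spec.map φ)) (x : F) :
    ∃ m : P, pr m = x ∧ sdim q m = sdim p x := by
  haveI : Surjective (Spec.map φ) :=
    ⟨Function.surjective_to_subsingleton (α := Spec (CommRingCat.of K)) (β := Spec (CommRingCat.of k)) _⟩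
  haveI : Surjective pr := MorphismProperty.of_isPullback sq.flip inferInstance
  obtain ⟨w, rfl⟩ := pr.surjective x
  obtain ⟨m, -, h1, h2⟩ := exists_sdim_eq sq w
  exact ⟨m, h1, h2⟩

end Groth.Agent.DimF18
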